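import Cfsg.Agent.Coset.Table
import Cfsg.Agent.Coset.U62.Schur.L4Data

set_option autoImplicit false
set_option maxRecDepth 100000
set_option Elab.async false

namespace CfsgLib.Coset.U62.Schur.L4

/-- The relators on these letters, renumbered. -/
def lrels : List (List Nat) := [[0, 0], [0, 1, 0, 1, 0, 1], [0, 2, 0, 2], [0, 3, 0, 3], [1, 1], [1, 2, 1, 2, 1, 2], [1, 3, 1, 3, 1, 3], [2, 2], [2, 3, 2, 3], [3, 3]]

theorem hR : checkRules lrels subs R = true := by decide +kernel
theorem hdefs : checkDefs E 4 8 192 = true := by decide +kernel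
theorem hsteps : checkChunks E id R 4 2 192 4 C = true := by decide +kernel
theorem htable : checkTable E id (192 + chunk * 4) 192 4 8 2 Rep Ref Tb = true := by decide +kernel

end CfsgLib.Coset.U62.Schur.L4
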