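import Cfsg.Agent.Coset.Presented
import Cfsg.Agent.Coset.U62.Schur.Data
import Cfsg.Agent.Coset.U62.Schur.L1
import Cfsg.Agent.Coset.U62.Schur.L2
import Cfsg.Agent.Coset.U62.Schur.L3
import Cfsg.Agent.Coset.U62.Schur.L4
import Cfsg.Agent.Coset.U62.Schur.Top

/-! The group presented by the relators has order at most twelve times that of `PSU(6, 2)`. -/

set_option autoImplicit false
set_option maxRecDepth 100000
set_option Elab.async false

namespace CfsgLib.Coset.U62.Schur

open CfsgLib.Coset

/-- The presented group. -/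
abbrev P12 : Type := NumGr 8 rels

/-- Its generators. -/
noncomputable def Lp : List P12 := numGens 8 rels

theorem len_Lp : (Lp).length = 8 := length_numGens

theorem sq_Lp (x : Nat) : fl Lp x * fl Lp x = 1 := sq_numGens (by decide +kernel) x

theorem level {S S' : List Nat} {rs subs : List (List Nat)} {E Rep Tb : Nat → Nat}
    {R : Tr (List Nat × Nat)} {d d' N nC n dn dk : Nat} {C Ref : Nat → Nat} (k : Nat)
    (hk : S.length = k)
    (hc : checkLevel rels 8 S S' rs subs = true)
    (hR : checkRules rs subs R = true) (hd : checkDefs E k d' N = true)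
    (hs : checkChunks E id R k d N nC C = true)
    (ht : checkTable E id (N + chunk * nC) n k dn dk Rep Ref Tb = true) :
    TableOK (lv Lp S) (genBy Lp S') E id n Rep Tb := by
  have hl : (lv Lp S).length = k := by simp [lv, hk]
  exact tableOK_of_check (inv_lv sq_Lp S) hR (hl.symm ▸ hd) (hl.symm ▸ hs) (hl.symm ▸ ht)
    (level_rels len_Lp hc ev_numGens) (level_subs len_Lp hc)

theorem card_le : Finite P12 ∧ Nat.card P12 ≤ 110361968640 := by
  have c0 : checkLevel rels 8 [0, 1, 2, 3, 4, 5, 6, 7] [0, 1, 2, 3, 4, 5, 6] Top.lrels Top.subs =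
      true := by decide +kernel
  have c1 : checkLevel rels 8 [0, 1, 2, 3, 4, 5, 6] [0, 1, 2, 3, 4, 5] L1.lrels L1.subs = true := by
    decide +kernel
  have c2 : checkLevel rels 8 [0, 1, 2, 3, 4, 5] [0, 1, 2, 3, 4] L2.lrels L2.subs = true := by
    decide +kernel
  have c3 : checkLevel rels 8 [0, 1, 2, 3, 4] [0, 1, 2, 3] L3.lrels L3.subs = true := by
    decide +kernel
  have c4 : checkLevel rels 8 [0, 1, 2, 3] [] L4.lrels L4.subs = true := by decide +kernel
  have h4 := level_card (level 4 rfl c4 L4.hR L4.hdefs L4.hsteps L4.htable) (by decide) c4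
    card_genBy_nil
  have h3 := level_card (level 5 rfl c3 L3.hR L3.hdefs L3.hsteps L3.htable) (by decide) c3 h4
  have h2 := level_card (level 6 rfl c2 L2.hR L2.hdefs L2.hsteps L2.htable) (by decide) c2 h3
  have h1 := level_card (level 7 rfl c1 L1.hR L1.hdefs L1.hsteps L1.htable) (by decide) c1 h2
  have h0 := level_card (level 8 rfl c0 Top.hR Top.hdefs Top.hsteps Top.htable) (by decide) c0 h1
  have htop : genBy Lp [0, 1, 2, 3, 4, 5, 6, 7] = ⊤ := by
    have := genBy_range (L := Lp) closure_numGens
    rwa [len_Lp] at this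
  rw [htop] at h0
  obtain ⟨hf, hc⟩ := h0
  rw [Subgroup.card_top] at hc
  exact ⟨Finite.of_equiv _ Subgroup.topEquiv.toEquiv, hc.trans (by norm_num)⟩

end CfsgLib.Coset.U62.Schur
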