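import Cfsg.Agent.Coset.U62.Schur.Group
import Cfsg.Agent.Coset.U62.Schur.Pres
import Mathlib.GroupTheory.Abelianization.Defs
import Mathlib.Tactic.Group

/-!
The presented group maps to `SU(6, 2)` and, in two ways, to the double cover inside
`Cfsg.Spor.Fi22`; together the three maps are injective.
-/

set_option autoImplicit false
set_option maxRecDepth 100000
set_option Elab.async false

namespace CfsgLib.Coset.U62.Schur

open CfsgLib.Coset
open CfsgLib.Coset.G24 (F4 toVec rowsOf mulVecK beqL eq_of_beqL checkCols)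
open scoped Matrix commutatorElement

/-- The map to the special unitary group. -/
noncomputable def μ : P12 →* U := numHom len_Ls fun w hw => (ev_rels_SU w hw).1

/-- The map at the moved centres. -/
noncomputable def μD : P12 →* U := numHom len_Ld fun w hw => (ev_rels_SU w hw).2

/-- The covering map. -/
noncomputable def τ : P12 →* G := pG.comp μ

theorem τ_surjective : Function.Surjective τ := by
  rw [← MonoidHom.range_eq_top, eq_top_iff, ← closure_Lg, Subgroup.closure_le]
  intro x hx
  obtain ⟨l, hl, rfl⟩ := List.getElem_of_mem hx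
  refine ⟨fl Lp l, ?_⟩
  rw [τ, MonoidHom.comp_apply, μ, show numHom len_Ls _ (fl Lp l) = fl Ls l from numHom_fl len_Ls _ l,
    ← fl_map, ← Lg, fl, List.getD_eq_getElem _ _ hl]

/-- The diagonal element. -/
def Dm : Matrix (Fin 6) (Fin 6) F4 := Matrix.diagonal fun i => if i = 0 then F4.w else 1

theorem Dm_gens : ∀ l : Fin 8, Cfsg.unitaryTransvection 6 2 (ptF ptsD l) (1 : F4) * Dm =
    Dm * Cfsg.unitaryTransvection 6 2 (ptF ptsL l) (1 : F4) := by decide +kernel

theorem Dm_det : Dm.det ≠ 0 := by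
  rw [Dm, Matrix.det_diagonal, Finset.prod_ne_zero_iff]
  intro i _
  split <;> decide

theorem conj_Dm (x : P12) : mat (μD x) * Dm = Dm * mat (μ x) := by
  have hx : x ∈ Subgroup.closure {y | y ∈ Lp} := closure_numGens ▸ Subgroup.mem_top x
  induction hx using Subgroup.closure_induction with
  | mem y hy =>
    obtain ⟨l, hl, rfl⟩ := List.getElem_of_mem hy
    have hl8 : l < 8 := len_Lp ▸ hl
    rw [← List.getD_eq_getElem Lp 1 hl]
    show mat (μD (fl Lp l)) * Dm = Dm * mat (μ (fl Lp l))
    rw [show μD (fl Lp l) = fl Ld l from numHom_fl len_Ld _ l,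
      show μ (fl Lp l) = fl Ls l from numHom_fl len_Ls _ l,
      show l = ((⟨l, hl8⟩ : Fin 8) : Nat) from rfl, fl_Ld, fl_Ls]
    exact Dm_gens ⟨l, hl8⟩
  | one => rw [map_one, map_one, mat_one, Matrix.one_mul, Matrix.mul_one]
  | mul a b _ _ ha hb =>
    rw [map_mul, map_mul, mat_mul, mat_mul, Matrix.mul_assoc, hb, ← Matrix.mul_assoc, ha,
      Matrix.mul_assoc]
  | inv a _ ha =>
    have e1 : mat (μD a⁻¹) * mat (μD a) = 1 := by rw [← mat_mul, ← map_mul, inv_mul_cancel, map_one, mat_one]
    have e2 : mat (μ a) * mat (μ a⁻¹) = 1 := by rw [← mat_mul, ← map_mul, mul_inv_cancel, map_one, mat_one]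
    calc mat (μD a⁻¹) * Dm = mat (μD a⁻¹) * Dm * (mat (μ a) * mat (μ a⁻¹)) := by
          rw [e2, Matrix.mul_one]
      _ = mat (μD a⁻¹) * (Dm * mat (μ a)) * mat (μ a⁻¹) := by simp only [Matrix.mul_assoc]
      _ = Dm * mat (μ a⁻¹) := by rw [← ha, ← Matrix.mul_assoc, e1, Matrix.one_mul]

theorem μD_scalar {x : P12} (h : x ∈ τ.ker) : μD x ∈ Subgroup.center U := by
  rw [τ, MonoidHom.mem_ker, MonoidHom.comp_apply, QuotientGroup.mk'_apply, QuotientGroup.eq_one_iff,
    CfsgLib.Unitary.mem_center_SU_iff hF (by norm_num)] at h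
  rw [CfsgLib.Unitary.mem_center_SU_iff hF (by norm_num)]
  obtain ⟨a, ha⟩ := h
  refine ⟨a, ?_⟩
  have e := conj_Dm x
  have hD : IsUnit Dm.det := isUnit_iff_ne_zero.mpr Dm_det
  show mat (μD x) = _
  calc mat (μD x) = mat (μD x) * Dm * Dm⁻¹ := by
        rw [Matrix.mul_assoc, Matrix.mul_nonsing_inv _ hD, Matrix.mul_one]
    _ = Dm * (a • 1) * Dm⁻¹ := by rw [e, show mat (μ x) = a • 1 from ha]
    _ = a • 1 := by
      rw [Matrix.mul_smul, Matrix.mul_one, Matrix.smul_mul, Matrix.mul_nonsing_inv _ hD]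

/-! ### The double cover -/

/-- The old generators in the double cover. -/
noncomputable def Lh : List Fi22.H := List.ofFn gH

/-- The old transvections. -/
noncomputable def Lt : List U := List.ofFn tvU

theorem fl_Lh (l : Fin 9) : fl Lh l = gH l := by
  rw [fl, Lh, List.getD_eq_getElem _ _ (by simp), List.getElem_ofFn]

theorem fl_Lt (l : Fin 9) : fl Lt l = tvU l := by
  rw [fl, Lt, List.getD_eq_getElem _ _ (by simp), List.getElem_ofFn]

/-- A word of old generators, in the generators of the sporadic group. -/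
def flatW (w : List Nat) : List Nat := w.flatMap fun l => Fi22.Top.subs.getD l []

theorem coe_ev_Lh (w : List Nat) (hw : ∀ l ∈ w, l < 9) :
    ((ev Lh w : Fi22.H) : Cfsg.Spor.Fi22) = ev Fi22.Lg (flatW w) := by
  induction w with
  | nil => simp [flatW]
  | cons l w ih =>
    have hl : l < 9 := hw l (by simp)
    rw [ev_cons, Subgroup.coe_mul, ih fun a ha => hw a (by simp [ha]),
      show l = ((⟨l, hl⟩ : Fin 9) : Nat) from rfl, fl_Lh]
    simp [flatW, ev_append, gH, gen]

theorem θ_ev (w : List Nat) (hw : ∀ l ∈ w, l < 9) : θ (ev Lh w) = pG (ev Lt w) := by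
  induction w with
  | nil => simp
  | cons l w ih =>
    have hl : l < 9 := hw l (by simp)
    rw [ev_cons, ev_cons, map_mul, map_mul, ih fun a ha => hw a (by simp [ha]),
      show l = ((⟨l, hl⟩ : Fin 9) : Nat) from rfl, fl_Lh, fl_Lt]
    congr 1
    exact θ_eq (pair_mem _)

/-- The word of a lift. -/
def liftW (L : List (List Nat × Nat)) (l : Nat) : List Nat := tpW (L.getD l ([], 0)) ++ [0]

/-- The lifted generators. -/
noncomputable def LH (L : List (List Nat × Nat)) : List Fi22.H :=
  (List.range 8).map fun l => ev Lh (liftW L l)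

theorem len_LH (L : List (List Nat × Nat)) : (LH L).length = 8 := by simp [LH]

theorem ev_LH (L : List (List Nat × Nat)) (w : List Nat) (hw : ∀ l ∈ w, l < 8) :
    ev (LH L) w = ev Lh (w.flatMap (liftW L)) := by
  induction w with
  | nil => simp
  | cons l w ih =>
    have hl : l < 8 := hw l (by simp)
    rw [ev_cons, List.flatMap_cons, ev_append, ih fun a ha => hw a (by simp [ha]), fl, LH,
      List.getD_eq_getElem _ _ (by simpa using hl), List.getElem_map, List.getElem_range]

/-- The image of a word equals a word of the sporadic group on the base. -/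
noncomputable def imgIs (L : List (List Nat × Nat)) (w v : List Nat) : Bool :=
  cond (checkLetters 8 [w]) (cond (checkLetters 9 [w.flatMap (liftW L)])
    (cond (checkLetters 9 [flatW (w.flatMap (liftW L))]) (cond (checkLetters 9 [v])
      (allList (fun b => Nat.beq (follow (tget Fi22.Top.Tb) b (flatW (w.flatMap (liftW L))))
        (follow (tget Fi22.Top.Tb) b v)) (base.map Fin.val)) false) false) false) false

theorem imgIs_eq {L : List (List Nat × Nat)} {w v : List Nat} (h : imgIs L w v = true) :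
    ((ev (LH L) w : Fi22.H) : Cfsg.Spor.Fi22) = ev Fi22.Lg v := by
  obtain ⟨h1, h⟩ := cond_false_eq_true.mp h
  obtain ⟨h2, h⟩ := cond_false_eq_true.mp h
  obtain ⟨h3, h⟩ := cond_false_eq_true.mp h
  obtain ⟨h4, h⟩ := cond_false_eq_true.mp h
  rw [ev_LH L w (letters_lt h1 _ (List.mem_singleton_self _)),
    coe_ev_Lh _ (letters_lt h2 _ (List.mem_singleton_self _))]
  exact eq_of_base h3 h4 h

theorem rels_H : allList (fun w => cond (imgIs liftA w []) (imgIs liftB w []) false) rels = true := by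
  decide +kernel

theorem ev_rels_H : ∀ w ∈ rels, ev (LH liftA) w = 1 ∧ ev (LH liftB) w = 1 := by
  intro w hw
  obtain ⟨h1, h2⟩ := cond_false_eq_true.mp (allList_iff.mp rels_H w hw)
  exact ⟨Subtype.ext (by rw [imgIs_eq h1, ev_nil]; rfl), Subtype.ext (by rw [imgIs_eq h2, ev_nil]; rfl)⟩

/-- The first map to the double cover. -/
noncomputable def νA : P12 →* Fi22.H := numHom (len_LH liftA) fun w hw => (ev_rels_H w hw).1

/-- The second map to the double cover. -/
noncomputable def νB : P12 →* Fi22.H := numHom (len_LH liftB) fun w hw => (ev_rels_H w hw).2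

theorem lift_checks : allBelow 3 8 (fun l =>
    cond (checkLetters 9 [liftW liftA l]) (cond (checkLetters 9 [liftW liftB l])
      (cond (checkCols mats (liftW liftA l) 6 (matsT.getD l []))
        (checkCols mats (liftW liftB l) 6 (matsD.getD l [])) false) false) false) = true := by
  decide +kernel

theorem mat_of_check9 {w : List Nat} (hw : ∀ l ∈ w, l < 9) (A : Matrix (Fin 6) (Fin 6) F4)
    (h : checkCols mats w 6 (rowsOf (Equiv.refl (Fin 6)) A) = true) : mat (ev Lt w) = A := by
  have hlen : (Lt).length = 9 := by simp [Lt]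
  have e := CfsgLib.Coset.G24.ev_eq_of_checkCols (L := Lt.map toM) (mats := mats) (Equiv.refl (Fin 6))
    (fun l hl => by
      rw [fl_map, show l = ((⟨l, by simpa [hlen] using hl⟩ : Fin 9) : Nat) from rfl, fl_Lt]
      exact (rows_tvU _).symm)
    (w := w) (by simpa [hlen] using hw) A h
  rw [ev_mapHom] at e
  exact e

theorem θ_ν (x : P12) : θ (νA x) = pG (μ x) ∧ θ (νB x) = pG (μD x) := by
  have hx : x ∈ Subgroup.closure {y | y ∈ Lp} := closure_numGens ▸ Subgroup.mem_top x
  induction hx using Subgroup.closure_induction with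
  | mem y hy =>
    obtain ⟨l, hl, rfl⟩ := List.getElem_of_mem hy
    have hl8 : l < 8 := len_Lp ▸ hl
    rw [← List.getD_eq_getElem Lp 1 hl]
    show θ (νA (fl Lp l)) = pG (μ (fl Lp l)) ∧ θ (νB (fl Lp l)) = pG (μD (fl Lp l))
    have hfl : ∀ L, fl (LH L) l = ev Lh (liftW L l) := fun L => by
      rw [fl, LH, List.getD_eq_getElem _ _ (by simpa using hl8), List.getElem_map, List.getElem_range]
    rw [show νA (fl Lp l) = fl (LH liftA) l from numHom_fl (len_LH _) _ l,
      show νB (fl Lp l) = fl (LH liftB) l from numHom_fl (len_LH _) _ l,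
      show μD (fl Lp l) = fl Ld l from numHom_fl len_Ld _ l,
      show μ (fl Lp l) = fl Ls l from numHom_fl len_Ls _ l, hfl, hfl]
    obtain ⟨h1, h⟩ := cond_false_eq_true.mp (of_allBelow lift_checks l hl8)
    obtain ⟨h2, h⟩ := cond_false_eq_true.mp h
    obtain ⟨h3, h4⟩ := cond_false_eq_true.mp h
    have g1 := letters_lt h1 _ (List.mem_singleton_self _)
    have g2 := letters_lt h2 _ (List.mem_singleton_self _)
    rw [rows_Ls l hl8] at h3
    rw [rows_Ld l hl8] at h4
    rw [θ_ev _ g1, θ_ev _ g2]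
    exact ⟨congrArg pG (Subtype.ext (Subtype.ext (mat_of_check9 g1 _ h3))),
      congrArg pG (Subtype.ext (Subtype.ext (mat_of_check9 g2 _ h4)))⟩
  | one => simp
  | mul a b _ _ ha hb => simp only [map_mul, ha, hb, and_self]
  | inv a _ ha => simp only [map_inv, ha, and_self]

/-! ### The kernel -/

/-- The kernel seen in the three covers. -/
noncomputable def ψ : τ.ker →* Subgroup.center U × θ.ker × θ.ker :=
  (((μ.comp τ.ker.subtype).codRestrict (Subgroup.center U) fun x => by
      have h : pG (μ x.1) = 1 := x.2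
      rwa [QuotientGroup.mk'_apply, QuotientGroup.eq_one_iff] at h).prod
    (((νA.comp τ.ker.subtype).codRestrict θ.ker fun x => by
      rw [MonoidHom.mem_ker, MonoidHom.comp_apply, (θ_ν _).1]; exact MonoidHom.mem_ker.mp x.2).prod
    ((νB.comp τ.ker.subtype).codRestrict θ.ker fun x => by
      rw [MonoidHom.mem_ker, MonoidHom.comp_apply, (θ_ν _).2, QuotientGroup.mk'_apply,
        QuotientGroup.eq_one_iff]
      exact μD_scalar x.2)))

theorem kernel_words :
    (cond (scalW k3W) (cond (imgIs liftA k3W []) (cond (imgIs liftB k3W [])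
      (CfsgLib.Coset.G24.runW matsT k3W [.o, .z, .z, .z, .z, .z]
        fun r => !beqL r [.o, .z, .z, .z, .z, .z]) false) false) false) = true ∧
    (cond (checkLetters 8 [k2A]) (cond (checkCols matsT k2A 6 (scal F4.o))
      (cond (imgIs liftA k2A [0]) (imgIs liftB k2A []) false) false) false) = true ∧
    (cond (checkLetters 8 [k2B]) (cond (checkCols matsT k2B 6 (scal F4.o))
      (cond (imgIs liftA k2B []) (imgIs liftB k2B [0]) false) false) false) = true := by
  refine ⟨?_, ?_, ?_⟩ <;> decide +kernel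

theorem μ_ev (w : List Nat) : μ (ev Lp w) = ev Ls w := numHom_ev len_Ls _ w

theorem z_val : (z : Cfsg.Spor.Fi22) = ev Fi22.Lg [0] := rfl

theorem card_center : Nat.card (Subgroup.center U) = 3 := by
  rw [CfsgLib.Unitary.card_center_SU hF (by norm_num)]
  rfl

theorem ψ_surjective : Function.Surjective ψ := by
  obtain ⟨h3, hA, hB⟩ := kernel_words
  obtain ⟨a1, h3⟩ := cond_false_eq_true.mp h3
  obtain ⟨a2, h3⟩ := cond_false_eq_true.mp h3
  obtain ⟨a3, a4⟩ := cond_false_eq_true.mp h3
  obtain ⟨b1, hA⟩ := cond_false_eq_true.mp hA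
  obtain ⟨b2, hA⟩ := cond_false_eq_true.mp hA
  obtain ⟨b3, b4⟩ := cond_false_eq_true.mp hA
  obtain ⟨c1, hB⟩ := cond_false_eq_true.mp hB
  obtain ⟨c2, hB⟩ := cond_false_eq_true.mp hB
  obtain ⟨c3, c4⟩ := cond_false_eq_true.mp hB
  rw [← scal_rows] at b2 c2
  have hlA := letters_lt b1 _ (List.mem_singleton_self _)
  have hlB := letters_lt c1 _ (List.mem_singleton_self _)
  have hl3 := letters_lt (cond_false_eq_true.mp a1).1 _ (List.mem_singleton_self _)
  have sA : ev Ls k2A = 1 :=
    Subtype.ext (Subtype.ext ((mat_of_check len_Ls rows_Ls hlA _ b2).trans (one_smul _ _)))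
  have sB : ev Ls k2B = 1 :=
    Subtype.ext (Subtype.ext ((mat_of_check len_Ls rows_Ls hlB _ c2).trans (one_smul _ _)))
  have k3mem : ev Lp k3W ∈ τ.ker := by
    rw [MonoidHom.mem_ker, τ, MonoidHom.comp_apply, μ_ev, ← ev_mapHom, ← Lg, scalW_one a1]
  have kAmem : ev Lp k2A ∈ τ.ker := by
    rw [MonoidHom.mem_ker, τ, MonoidHom.comp_apply, μ_ev, sA, map_one]
  have kBmem : ev Lp k2B ∈ τ.ker := by
    rw [MonoidHom.mem_ker, τ, MonoidHom.comp_apply, μ_ev, sB, map_one]
  have hνA : ∀ {w v : List Nat}, imgIs liftA w v = true →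
      ((νA (ev Lp w) : Fi22.H) : Cfsg.Spor.Fi22) = ev Fi22.Lg v := fun {w v} h => by
    rw [show νA (ev Lp w) = ev (LH liftA) w from numHom_ev (len_LH _) _ w]; exact imgIs_eq h
  have hνB : ∀ {w v : List Nat}, imgIs liftB w v = true →
      ((νB (ev Lp w) : Fi22.H) : Cfsg.Spor.Fi22) = ev Fi22.Lg v := fun {w v} h => by
    rw [show νB (ev Lp w) = ev (LH liftB) w from numHom_ev (len_LH _) _ w]; exact imgIs_eq h
  let zK : θ.ker := ⟨z, z_ker⟩
  let cK : Subgroup.center U := (ψ ⟨_, k3mem⟩).1
  have e3 : ψ ⟨_, k3mem⟩ = (cK, 1, 1) := Prod.ext rfl (Prod.ext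
    (Subtype.ext (Subtype.ext ((hνA a2).trans (ev_nil _))))
    (Subtype.ext (Subtype.ext ((hνB a3).trans (ev_nil _)))))
  have eA : ψ ⟨_, kAmem⟩ = (1, zK, 1) := Prod.ext (Subtype.ext ((μ_ev k2A).trans sA)) (Prod.ext
    (Subtype.ext (Subtype.ext ((hνA b3).trans z_val.symm)))
    (Subtype.ext (Subtype.ext ((hνB b4).trans (ev_nil _)))))
  have eB : ψ ⟨_, kBmem⟩ = (1, 1, zK) := Prod.ext (Subtype.ext ((μ_ev k2B).trans sB)) (Prod.ext
    (Subtype.ext (Subtype.ext ((hνA c3).trans (ev_nil _))))
    (Subtype.ext (Subtype.ext ((hνB c4).trans z_val.symm))))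
  have hc : cK ≠ 1 := by
    intro h
    have e : ev Ls k3W = 1 := (μ_ev k3W).symm.trans (congrArg Subtype.val h)
    have hv : [F4.o, F4.z, F4.z, F4.z, F4.z, F4.z] =
        toVec (Equiv.refl (Fin 6)) (Pi.single (0 : Fin 6) (1 : F4)) := by decide +kernel
    have hm : ∀ l, l < (Ls.map toM).length →
        matsT.getD l [] = rowsOf (Equiv.refl (Fin 6)) (fl (Ls.map toM) l : GL (Fin 6) F4).val :=
      fun l hl => by rw [fl_map]; exact rows_Ls l (by simpa [len_Ls] using hl)
    rw [hv, CfsgLib.Coset.G24.runW_eq (Equiv.refl (Fin 6)) hm k3W (by simpa [len_Ls] using hl3),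
      ev_mapHom, e, map_one, Units.val_one, Matrix.one_mulVec, beqL_self] at a4
    exact absurd a4 (by decide)
  haveI : Fact (Nat.Prime 3) := ⟨Nat.prime_three⟩
  haveI : Fact (Nat.Prime 2) := ⟨Nat.prime_two⟩
  have h2 := zpowers_eq_top_of_prime_card card_ker (g := zK) fun h => z_ne_one (congrArg Subtype.val h)
  have h3' := zpowers_eq_top_of_prime_card card_center hc
  rintro ⟨a, b, d⟩
  obtain ⟨i, rfl⟩ := Subgroup.mem_zpowers_iff.mp (h3' ▸ Subgroup.mem_top a)
  obtain ⟨j, rfl⟩ := Subgroup.mem_zpowers_iff.mp (h2 ▸ Subgroup.mem_top b)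
  obtain ⟨k, rfl⟩ := Subgroup.mem_zpowers_iff.mp (h2 ▸ Subgroup.mem_top d)
  refine ⟨⟨_, k3mem⟩ ^ i * ⟨_, kAmem⟩ ^ j * ⟨_, kBmem⟩ ^ k, ?_⟩
  rw [map_mul, map_mul, map_zpow, map_zpow, map_zpow, e3, eA, eB]
  simp

theorem card_ker_τ : Nat.card τ.ker = 12 ∧ Function.Injective ψ := by
  have := card_le.1
  have h : Nat.card τ.ker * Nat.card G = Nat.card P12 := by
    rw [← τ.ker.card_mul_index, Subgroup.index_ker, MonoidHom.range_eq_top.mpr τ_surjective,
      Subgroup.card_top]
  rw [show Nat.card G = 9196830720 from card_PSU] at h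
  have hle : Nat.card τ.ker ≤ 12 := by have := card_le.2; omega
  have hT : Nat.card (Subgroup.center U × θ.ker × θ.ker) = 12 := by
    rw [Nat.card_prod, Nat.card_prod, card_center, card_ker]
  have hge := Nat.card_le_card_of_surjective _ ψ_surjective
  have hcard : Nat.card τ.ker = 12 := le_antisymm hle (hT ▸ hge)
  exact ⟨hcard, ((Nat.bijective_iff_surjective_and_card _).mpr
    ⟨ψ_surjective, hcard.trans hT.symm⟩).1⟩

theorem ker_central : τ.ker ≤ Subgroup.center P12 := by
  intro x hx
  refine Subgroup.mem_center_iff.mpr fun y => ?_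
  set c := x * y * x⁻¹ * y⁻¹ with hc
  have hck : c ∈ τ.ker := by
    simp only [hc, MonoidHom.mem_ker, map_mul, map_inv, MonoidHom.mem_ker.mp hx]
    group
  have hxK : μ x ∈ Subgroup.center U ∧ νA x ∈ Subgroup.center Fi22.H ∧
      νB x ∈ Subgroup.center Fi22.H := by
    refine ⟨((ψ ⟨x, hx⟩).1).2, ?_, ?_⟩ <;> rw [center_eq]
    · exact ((ψ ⟨x, hx⟩).2.1).2
    · exact ((ψ ⟨x, hx⟩).2.2).2
  have triv : ∀ {B : Type} [Group B] (f : P12 →* B), f x ∈ Subgroup.center B → f c = 1 :=
    fun {B} _ f hf => by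
      simp only [hc, map_mul, map_inv]
      rw [← Subgroup.mem_center_iff.mp hf (f y)]
      group
  have h1 : ψ ⟨c, hck⟩ = 1 := Prod.ext (Subtype.ext (triv μ hxK.1))
    (Prod.ext (Subtype.ext (triv νA hxK.2.1)) (Subtype.ext (triv νB hxK.2.2)))
  have hc1 : c = 1 := congrArg Subtype.val (card_ker_τ.2 (h1.trans (map_one ψ).symm))
  rw [hc, mul_inv_eq_one, mul_inv_eq_iff_eq_mul] at hc1
  exact hc1.symm

theorem braids_mem : allList (fun e => rels.contains [e.1, e.2, e.1, e.2, e.1, e.2])
    [(0, 1), (1, 2), (1, 3), (2, 4), (4, 5), (5, 7), (6, 7)] = true ∧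
    rels.contains (fiveA.flatMap tpW) = true ∧ (fiveA.flatMap tpW).length = 29 ∧
    checkLetters 8 [fiveA.flatMap tpW] = true := by
  refine ⟨?_, ?_, ?_, ?_⟩ <;> decide +kernel

theorem perfect : commutator P12 = ⊤ := by
  set f : P12 →* Abelianization P12 := Abelianization.of
  have hsq : ∀ l, f (fl Lp l) * f (fl Lp l) = 1 := fun l => by rw [← map_mul, sq_Lp, map_one]
  obtain ⟨hb, hL, hlen, hlet⟩ := braids_mem
  have hedge : ∀ a b, (a, b) ∈ [(0, 1), (1, 2), (1, 3), (2, 4), (4, 5), (5, 7), (6, 7)] →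
      f (fl Lp a) = f (fl Lp b) := by
    intro a b h
    have e := congrArg f (ev_numGens (k := 8) _ (List.contains_iff_mem.mp (allList_iff.mp hb _ h)))
    simp only [ev_cons, ev_nil, mul_one, map_mul, map_one] at e
    change f (fl Lp a) * (f (fl Lp b) * (f (fl Lp a) * (f (fl Lp b) * (f (fl Lp a) * f (fl Lp b))))) = 1 at e
    set A := f (fl Lp a) with hA
    set B := f (fl Lp b) with hB
    have e2 : A * B = 1 := by
      calc A * B = (A * A) * (B * B) * (A * B) := by rw [hA, hsq, hB, hsq, one_mul, one_mul]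
        _ = A * (B * (A * (B * (A * B)))) * ((A * A) * (B * B))⁻¹ * ((A * A) * (B * B)) := by
          rw [inv_mul_cancel_right, mul_comm A (B * _)]
          simp only [mul_assoc, mul_comm, mul_left_comm]
        _ = 1 := by rw [e, hA, hsq, hB, hsq]; simp
    calc A = A * (B * B) := by rw [hB, hsq, mul_one]
      _ = B := by rw [← mul_assoc, e2, one_mul]
  have h01 := hedge 0 1 (by simp)
  have h12 := hedge 1 2 (by simp)
  have h13 := hedge 1 3 (by simp)
  have h24 := hedge 2 4 (by simp)
  have h45 := hedge 4 5 (by simp)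
  have h57 := hedge 5 7 (by simp)
  have h67 := hedge 6 7 (by simp)
  have hall : ∀ l < 8, f (fl Lp l) = f (fl Lp 0) := by
    intro l hl
    interval_cases l
    · rfl
    · exact h01.symm
    · exact (h01.trans h12).symm
    · exact (h01.trans h13).symm
    · exact (h01.trans (h12.trans h24)).symm
    · exact (h01.trans (h12.trans (h24.trans h45))).symm
    · exact h67.trans (h01.trans (h12.trans (h24.trans (h45.trans h57)))).symm
    · exact (h01.trans (h12.trans (h24.trans (h45.trans h57)))).symm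
  have hword : ∀ w : List Nat, (∀ l ∈ w, l < 8) → f (ev Lp w) = f (fl Lp 0) ^ w.length := by
    intro w
    induction w with
    | nil => intro _; simp
    | cons l w ih =>
      intro h
      rw [ev_cons, map_mul, hall l (h l (by simp)), ih fun a ha => h a (by simp [ha]),
        List.length_cons, pow_succ']
  have h1 : f (fl Lp 0) = 1 := by
    have e := hword _ (letters_lt hlet _ (List.mem_singleton_self _))
    rw [hlen, show ev Lp (fiveA.flatMap tpW) = 1 from ev_numGens _ (List.contains_iff_mem.mp hL),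
      map_one, show (29 : ℕ) = 2 * 14 + 1 from rfl, pow_succ, pow_mul, pow_two, hsq, one_pow,
      one_mul] at e
    exact e.symm
  rw [eq_top_iff]
  rintro x -
  rw [← Abelianization.ker_of, MonoidHom.mem_ker]
  have hx : x ∈ Subgroup.closure {y | y ∈ Lp} := closure_numGens ▸ Subgroup.mem_top x
  induction hx using Subgroup.closure_induction with
  | mem y hy =>
    obtain ⟨l, hl, rfl⟩ := List.getElem_of_mem hy
    rw [← List.getD_eq_getElem Lp 1 hl]
    exact (hall l (len_Lp ▸ hl)).trans h1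
  | one => exact map_one f
  | mul a b _ _ ha hb => exact (map_mul f a b).trans ((congrArg₂ (· * ·) ha hb).trans (one_mul _))
  | inv a _ ha => exact (map_inv f a).trans ((congrArg Inv.inv ha).trans inv_one)

/-- The kernel. -/
theorem nonempty_kerEquiv : Nonempty (τ.ker ≃* Multiplicative (ZMod 3 × ZMod 2 × ZMod 2)) := by
  haveI : Fact (Nat.Prime 3) := ⟨Nat.prime_three⟩
  haveI : Fact (Nat.Prime 2) := ⟨Nat.prime_two⟩
  haveI : IsCyclic (Subgroup.center U) := isCyclic_of_prime_card card_center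
  haveI : IsCyclic θ.ker := isCyclic_of_prime_card card_ker
  have e3 : Subgroup.center U ≃* Multiplicative (ZMod 3) :=
    mulEquivOfCyclicCardEq (by rw [card_center, Nat.card_congr Multiplicative.toAdd, Nat.card_zmod])
  have e2 : θ.ker ≃* Multiplicative (ZMod 2) :=
    mulEquivOfCyclicCardEq (by rw [card_ker, Nat.card_congr Multiplicative.toAdd, Nat.card_zmod])
  exact ⟨(MulEquiv.ofBijective ψ ⟨card_ker_τ.2, ψ_surjective⟩).trans
    ((e3.prodCongr ((e2.prodCongr e2).trans (MulEquiv.prodMultiplicative (ZMod 2) (ZMod 2)).symm)).trans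
      (MulEquiv.prodMultiplicative (ZMod 3) (ZMod 2 × ZMod 2)).symm)⟩

end CfsgLib.Coset.U62.Schur
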