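import Cfsg.Agent.Coset.U62.Cover
import Cfsg.Agent.Coset.G24.MatAction
import Cfsg.Agent.Coset.Presented
import Cfsg.Agent.Coset.U62.Schur.Data
import Cfsg.Agent.Coset.U62.Schur.Top

/-!
Eight transvections generating `PSU(6, 2)`, their relators, and the centraliser of one of them.
-/

set_option autoImplicit false
set_option maxRecDepth 100000
set_option Elab.async false

namespace CfsgLib.Coset.U62.Schur

open CfsgLib.Coset
open CfsgLib.Coset.G24 (F4 toVec rowsOf mulVecK beqL eq_of_beqL checkCols)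
open scoped Matrix

/-- The group. -/
abbrev G : Type := Cfsg.PSU 6 F4 2

/-- The diagonal matrices with one entry. -/
def scal (c : F4) : List (List F4) :=
  (List.range 6).map fun i => (List.range 6).map fun j => if i = j then c else F4.z

/-- A centre. -/
def ptF (P : List (List F4)) (l : Fin 8) : Fin 6 → F4 := fun i => (P.getD l.val []).getD i F4.z

theorem ptF_iso : (∀ l : Fin 8, Cfsg.hermForm 6 F4 2 (ptF ptsL l) (ptF ptsL l) = 0) ∧
    ∀ l : Fin 8, Cfsg.hermForm 6 F4 2 (ptF ptsD l) (ptF ptsD l) = 0 := by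
  constructor <;> decide +kernel

/-- The transvection in the special unitary group. -/
noncomputable def sT (l : Fin 8) : U :=
  CfsgLib.Unitary.suTv 6 (ptF ptsL l) 1 (ptF_iso.1 l) one_sq hF

/-- The transvection at the moved centre. -/
noncomputable def sD (l : Fin 8) : U :=
  CfsgLib.Unitary.suTv 6 (ptF ptsD l) 1 (ptF_iso.2 l) one_sq hF

/-- The eight transvections. -/
noncomputable def Ls : List U := List.ofFn sT

/-- The eight transvections at moved centres. -/
noncomputable def Ld : List U := List.ofFn sD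

/-- The projection. -/
noncomputable abbrev pG : U →* G := QuotientGroup.mk' (Subgroup.center U)

/-- Their images. -/
noncomputable def Lg : List G := Ls.map pG

theorem len_Ls : (Ls).length = 8 := by simp [Ls]
theorem len_Ld : (Ld).length = 8 := by simp [Ld]
theorem len_Lg : (Lg).length = 8 := by simp [Lg, Ls]

theorem fl_Ls (l : Fin 8) : fl Ls l = sT l := by
  rw [fl, Ls, List.getD_eq_getElem _ _ (by simp), List.getElem_ofFn]

theorem fl_Ld (l : Fin 8) : fl Ld l = sD l := by
  rw [fl, Ld, List.getD_eq_getElem _ _ (by simp), List.getElem_ofFn]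

theorem fl_map {A B : Type*} [Group A] [Group B] (f : A →* B) (L : List A) (l : Nat) :
    fl (L.map f) l = f (fl L l) := by
  rw [fl, fl, ← List.getD_map (f := f), map_one]

theorem ev_mapHom {A B : Type*} [Group A] [Group B] (f : A →* B) (L : List A) (w : List Nat) :
    ev (L.map f) w = f (ev L w) := by
  induction w with
  | nil => simp
  | cons l w ih => rw [ev_cons, ev_cons, map_mul, ih, fl_map]

theorem rows_check : (∀ l : Fin 8, rowsOf (Equiv.refl (Fin 6))
      (Cfsg.unitaryTransvection 6 2 (ptF ptsL l) (1 : F4)) = matsT.getD l.val []) ∧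
    ∀ l : Fin 8, rowsOf (Equiv.refl (Fin 6))
      (Cfsg.unitaryTransvection 6 2 (ptF ptsD l) (1 : F4)) = matsD.getD l.val [] := by
  constructor <;> decide +kernel

/-- The inclusion in the general linear group. -/
noncomputable def toM : U →* GL (Fin 6) F4 :=
  Matrix.SpecialLinearGroup.toGL.comp (Cfsg.SU 6 F4 2).subtype

theorem toM_val (s : U) : (toM s : Matrix (Fin 6) (Fin 6) F4) = mat s := rfl

theorem scal_rows : ∀ c : F4, rowsOf (Equiv.refl (Fin 6)) (c • (1 : Matrix (Fin 6) (Fin 6) F4)) =
    scal c := by decide +kernel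

theorem mat_of_check {L : List U} {M : List (List (List F4))} (hlen : L.length = 8)
    (hM : ∀ l, l < 8 → M.getD l [] = rowsOf (Equiv.refl (Fin 6)) (mat (fl L l)))
    {w : List Nat} (hw : ∀ l ∈ w, l < 8) (A : Matrix (Fin 6) (Fin 6) F4)
    (h : checkCols M w 6 (rowsOf (Equiv.refl (Fin 6)) A) = true) : mat (ev L w) = A := by
  have e := CfsgLib.Coset.G24.ev_eq_of_checkCols (L := L.map toM) (mats := M) (Equiv.refl (Fin 6))
    (fun l hl => by rw [fl_map]; exact hM l (by simpa [hlen] using hl))
    (w := w) (by simpa [hlen] using hw) A h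
  rw [ev_mapHom] at e
  exact e

theorem rows_Ls : ∀ l, l < 8 → matsT.getD l [] = rowsOf (Equiv.refl (Fin 6)) (mat (fl Ls l)) :=
  fun l hl => (rows_check.1 ⟨l, hl⟩).symm.trans (by rw [fl_Ls ⟨l, hl⟩]; rfl)

theorem rows_Ld : ∀ l, l < 8 → matsD.getD l [] = rowsOf (Equiv.refl (Fin 6)) (mat (fl Ld l)) :=
  fun l hl => (rows_check.2 ⟨l, hl⟩).symm.trans (by rw [fl_Ld ⟨l, hl⟩]; rfl)

/-- A word is a scalar. -/
noncomputable def scalW (w : List Nat) : Bool :=
  cond (checkLetters 8 [w]) ([F4.o, F4.w, F4.v].any fun c => checkCols matsT w 6 (scal c)) false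

theorem scalW_one {w : List Nat} (h : scalW w = true) : ev Lg w = 1 := by
  obtain ⟨h1, h2⟩ := cond_false_eq_true.mp h
  obtain ⟨c, -, hc⟩ := List.any_eq_true.mp h2
  rw [← scal_rows] at hc
  have e := mat_of_check len_Ls rows_Ls (letters_lt h1 _ (List.mem_singleton_self _)) _ hc
  rw [Lg, ev_mapHom, QuotientGroup.mk'_apply, QuotientGroup.eq_one_iff,
    CfsgLib.Unitary.mem_center_SU_iff hF (by norm_num)]
  exact ⟨c, e⟩

theorem rels_SU : allList (fun w => cond (checkLetters 8 [w])
    (cond (checkCols matsT w 6 (scal F4.o)) (checkCols matsD w 6 (scal F4.o)) false) false) rels =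
      true := by decide +kernel

theorem ev_rels_SU : ∀ w ∈ rels, ev Ls w = 1 ∧ ev Ld w = 1 := by
  intro w hw
  obtain ⟨h1, h2⟩ := cond_false_eq_true.mp (allList_iff.mp rels_SU w hw)
  obtain ⟨h2, h3⟩ := cond_false_eq_true.mp h2
  rw [← scal_rows] at h2 h3
  have hl := letters_lt h1 _ (List.mem_singleton_self _)
  exact ⟨Subtype.ext (Subtype.ext ((mat_of_check len_Ls rows_Ls hl _ h2).trans (one_smul _ _))),
    Subtype.ext (Subtype.ext ((mat_of_check len_Ld rows_Ld hl _ h3).trans (one_smul _ _)))⟩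

theorem ev_rels : ∀ w ∈ rels, ev Lg w = 1 := fun w hw => by
  rw [Lg, ev_mapHom, (ev_rels_SU w hw).1, map_one]

theorem sq_mem : ∀ l < 8, [l, l] ∈ rels := by decide +kernel

theorem sq_all (x : Nat) : fl Lg x * fl Lg x = 1 := by
  rcases lt_or_ge x 8 with h | h
  · simpa using ev_rels _ (sq_mem x h)
  · rw [fl_of_le _ (len_Lg.symm ▸ h), mul_one]

theorem inv_all (x : Nat) : fl Lg (id x) = (fl Lg x)⁻¹ :=
  (inv_eq_of_mul_eq_one_right (sq_all x)).symm

theorem ev_rev (w : List Nat) : ev Lg w.reverse = (ev Lg w)⁻¹ := by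
  induction w with
  | nil => simp
  | cons k w ih =>
    rw [List.reverse_cons, ev_append, ih, ev_cons, ev_cons, ev_nil, mul_one, mul_inv_rev,
      inv_eq_of_mul_eq_one_right (sq_all k)]

/-- Two words are equal in the group. -/
noncomputable def eqW (v w : List Nat) : Bool := scalW (v ++ w.reverse)

theorem eqW_eq {v w : List Nat} (h : eqW v w = true) : ev Lg v = ev Lg w := by
  have := scalW_one h
  rwa [ev_append, ev_rev, mul_inv_eq_one] at this

/-- A conjugate of a generator, as a word. -/
def tpW (p : List Nat × Nat) : List Nat := p.1 ++ [p.2] ++ p.1.reverse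

theorem ev_tpW (p : List Nat × Nat) : ev Lg (tpW p) = ev Lg p.1 * fl Lg p.2 * (ev Lg p.1)⁻¹ := by
  rw [tpW, ev_append, ev_append, ev_rev, ev_cons, ev_nil, mul_one]

/-! ### Generation -/

theorem old_check : allBelow 3 8 (fun j => cond (checkLetters 8 [oldW.getD j []])
    (checkCols matsT (oldW.getD j []) 6 (mats.getD (Nat.add j 1) [])) false) = true := by
  decide +kernel

theorem closure_Lg : Subgroup.closure {x | x ∈ Lg} = ⊤ := by
  set K := Subgroup.closure {x | x ∈ Lg}
  have hfl : ∀ l, fl Lg l ∈ K := fun l => by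
    rcases lt_or_ge l Lg.length with h | h
    · rw [fl, List.getD_eq_getElem _ _ h]
      exact Subgroup.subset_closure (List.getElem_mem h)
    · rw [fl_of_le _ h]; exact one_mem _
  have hev : ∀ w, ev Lg w ∈ K := fun w => by
    induction w with
    | nil => simp
    | cons l w ih => rw [ev_cons]; exact mul_mem (hfl l) ih
  have hold : ∀ l : Fin 9, θ (gH l) ∈ K := by
    intro l
    rw [θ_eq (pair_mem l)]
    rcases Nat.eq_zero_or_pos l.val with h0 | hpos
    · rw [show l = 0 from Fin.ext h0, tvU_zero]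
      exact one_mem _
    · have hj : l.val - 1 < 8 := by omega
      obtain ⟨h1, h2⟩ := cond_false_eq_true.mp (of_allBelow old_check (l.val - 1) hj)
      rw [show Nat.add (l.val - 1) 1 = l.val by rw [Nat.add_eq]; omega, ← rows_tvU l] at h2
      have e := mat_of_check len_Ls rows_Ls (letters_lt h1 _ (List.mem_singleton_self _)) _ h2
      have : tvU l = ev Ls (oldW.getD (l.val - 1) []) := (Subtype.ext (Subtype.ext e)).symm
      rw [this]
      show pG _ ∈ K
      rw [← ev_mapHom]
      exact hev _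
  rw [eq_top_iff]
  rintro g -
  obtain ⟨h, rfl⟩ := surjective_θ g
  have hh : h ∈ Subgroup.closure (Set.range gH) := closure_gH ▸ Subgroup.mem_top h
  induction hh using Subgroup.closure_induction with
  | mem x hx => obtain ⟨l, rfl⟩ := hx; exact hold l
  | one => rw [map_one]; exact one_mem _
  | mul a b _ _ ha hb => rw [map_mul]; exact mul_mem ha hb
  | inv a _ ha => rw [map_inv]; exact inv_mem ha

/-! ### The centraliser of the seventh transvection -/

/-- The subgroup generated by the first seven transvections. -/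
noncomputable def H7 : Subgroup G := genBy Lg [0, 1, 2, 3, 4, 5, 6]

theorem top_table : TableOK Lg H7 Top.E id 2079 Top.Rep Top.Tb :=
  tableOK_of_check inv_all Top.hR (len_Lg.symm ▸ Top.hdefs) (len_Lg.symm ▸ Top.hsteps)
    (len_Lg.symm ▸ Top.htable)
    (fun w hw => ev_rels w (List.contains_iff_mem.mp (List.all_eq_true.mp top_rels w hw)))
    (fun w hw => ev_mem_genBy _ fun l hl =>
      List.contains_iff_mem.mp (List.all_eq_true.mp (List.all_eq_true.mp top_subs w hw) l hl))
where
  top_rels : Top.lrels.all (fun w => rels.contains w) = true := by decide +kernel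
  top_subs : Top.subs.all (fun w => w.all fun l => [0, 1, 2, 3, 4, 5, 6].contains l) = true := by
    decide +kernel

/-- A field element from its code. -/
noncomputable def dec4 (a : Nat) : F4 :=
  cond (Nat.beq a 1) F4.o (cond (Nat.beq a 2) F4.w (cond (Nat.beq a 3) F4.v F4.z))

/-- The point of a coset, as a list. -/
noncomputable def cvL (i : Nat) : List F4 :=
  [dec4 (Nat.land (PtCode i) 3), dec4 (Nat.land (Nat.shiftRight (PtCode i) 2) 3),
    dec4 (Nat.land (Nat.shiftRight (PtCode i) 4) 3), dec4 (Nat.land (Nat.shiftRight (PtCode i) 6) 3),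
    dec4 (Nat.land (Nat.shiftRight (PtCode i) 8) 3), dec4 (Nat.land (Nat.shiftRight (PtCode i) 10) 3)]

/-- The point of a coset. -/
noncomputable def cv (i : Nat) : Fin 6 → F4 := fun a => (cvL i).getD a F4.z

theorem toVec_cv (i : Nat) : toVec (Equiv.refl (Fin 6)) (cv i) = cvL i := by
  simp [toVec, cv, List.ofFn_succ, cvL]

/-- Isotropy, and the action of the generators on the points. -/
noncomputable def cvOK : Bool :=
  allBelow 12 2079 fun i => cond (decide (Cfsg.hermForm 6 F4 2 (cv i) (cv i) = 0))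
    (allBelow 3 8 fun l => mulVecK (matsT.getD l []) (cvL i) fun r =>
      isMult r (cvL (tget Top.Tb i l))) false

theorem cv_ok : cvOK = true := by decide +kernel

theorem cv_iso {i : Nat} (hi : i < 2079) : Cfsg.hermForm 6 F4 2 (cv i) (cv i) = 0 :=
  of_decide_eq_true (cond_false_eq_true.mp (of_allBelow cv_ok i hi)).1

/-- The transvection of a coset. -/
noncomputable def Tr (i : Fin 2079) : U :=
  CfsgLib.Unitary.suTv 6 (cv i.val) 1 (cv_iso i.isLt) one_sq hF

theorem cube_one : ∀ c : F4, c ≠ 0 → (1 : F4) * c ^ (2 + 1) = 1 := by decide +kernel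

theorem tr_step (i : Fin 2079) (l : Fin 8) :
    ∃ j : Fin 2079, j.val = tget Top.Tb i.val l.val ∧ sT l * Tr i * (sT l)⁻¹ = Tr j := by
  have hlt := top_table.lt i.val i.isLt l.val (len_Lg.symm ▸ l.isLt)
  refine ⟨⟨_, hlt⟩, rfl, Subtype.ext (Subtype.ext ?_)⟩
  have h := of_allBelow (cond_false_eq_true.mp (of_allBelow cv_ok i.val i.isLt)).2 l.val l.isLt
  rw [CfsgLib.Coset.G24.mulVecK_eq, ← toVec_cv, rows_Ls l.val l.isLt, fl_Ls,
    CfsgLib.Coset.G24.mulVec_rows] at h
  obtain ⟨c, hc, h⟩ := isMult_spec h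
  have hv : mat (sT l) *ᵥ cv i.val = c • cv (tget Top.Tb i.val l.val) := by
    refine CfsgLib.Coset.G24.toVec_injective (Equiv.refl (Fin 6)) (h.trans ?_)
    rw [← toVec_cv, toVec, toVec, List.map_ofFn]
    rfl
  refine (CfsgLib.Unitary.utv_conj (sT l) (A := Tr i) (v := cv i.val) (c := (1 : F4)) rfl).trans ?_
  show Cfsg.unitaryTransvection 6 2 (mat (sT l) *ᵥ cv i.val) (1 : F4) = _
  rw [hv, CfsgLib.Unitary.utv_smul hF, cube_one c hc]
  rfl

theorem cv_zero : cvL 0 = ptsL.getD 6 [] := by decide +kernel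

theorem tr_zero : pG (Tr ⟨0, by decide⟩) = fl Lg 6 := by
  rw [Lg, fl_map]
  refine congrArg pG (Subtype.ext (Subtype.ext ?_))
  show Cfsg.unitaryTransvection 6 2 (cv 0) (1 : F4) = mat (fl Ls ((6 : Fin 8) : Nat))
  rw [fl_Ls]
  refine congrArg (fun v => Cfsg.unitaryTransvection 6 2 v (1 : F4)) ?_
  funext a
  rw [cv, cv_zero]
  rfl

/-- The cosets with the point of the seventh transvection. -/
noncomputable def sameT : List Nat := [0, follow (tget Top.Tb) 0 k3W, follow (tget Top.Tb) 0 (k3W ++ k3W)]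

/-- Cosets with another transvection are told apart. -/
noncomputable def trNe : Bool :=
  allBelow 12 2079 fun i => cond (sameT.any fun j => Nat.beq i j) true
    (!([F4.o, F4.w, F4.v].any fun c =>
      (List.range 6).all fun a => beqL
        ((rowsOf (Equiv.refl (Fin 6)) (Cfsg.unitaryTransvection 6 2 (cv i) (1 : F4))).getD a [])
        (((matsT.getD 6 []).getD a []).map fun x => c * x)))

theorem tr_ne : trNe = true := by decide +kernel

theorem k3_G : scalW k3W = true := by decide +kernel

theorem beqL_refl : ∀ t : List F4, beqL t t = true := beqL_self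

/-- The centraliser is generated by seven transvections. -/
theorem centralizer_le {g : G} (hg : g * fl Lg 6 = fl Lg 6 * g) : g ∈ H7 := by
  have hcov : ∀ x ∈ Subgroup.closure {y | y ∈ Lg}, ∃ i : Fin 2079,
      x * (rp Lg Top.E (Top.Rep i.val))⁻¹ ∈ H7 ∧ x⁻¹ * fl Lg 6 * x = pG (Tr i) := by
    have hstep : ∀ (x : G) (l : Nat), l < 8 → (∃ i : Fin 2079,
        x * (rp Lg Top.E (Top.Rep i.val))⁻¹ ∈ H7 ∧ x⁻¹ * fl Lg 6 * x = pG (Tr i)) →
        ∃ i : Fin 2079, x * fl Lg l * (rp Lg Top.E (Top.Rep i.val))⁻¹ ∈ H7 ∧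
          (x * fl Lg l)⁻¹ * fl Lg 6 * (x * fl Lg l) = pG (Tr i) := by
      rintro x l hl ⟨i, hx, ht⟩
      obtain ⟨j, hj, e⟩ := tr_step i ⟨l, hl⟩
      refine ⟨j, ?_, ?_⟩
      · rw [hj]
        simpa [mul_assoc] using H7.mul_mem hx (top_table.step i.val i.isLt l (len_Lg.symm ▸ hl))
      · have hflg : fl Lg l = pG (sT ⟨l, hl⟩) := by rw [Lg, fl_map, ← fl_Ls ⟨l, hl⟩]
        rw [← e, map_mul, map_mul, map_inv, ← hflg, ← ht, mul_inv_rev,
          inv_eq_of_mul_eq_one_right (sq_all l)]
        group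
    intro x hx
    induction hx using Subgroup.closure_induction_right with
    | one => exact ⟨⟨0, by decide⟩, by simp [top_table.zero, rp_zero], by
        rw [tr_zero]; group⟩
    | mul_right x hx y hy ih =>
      obtain ⟨l, hl, rfl⟩ := List.getElem_of_mem hy
      rw [← List.getD_eq_getElem Lg 1 hl]
      exact hstep x l (len_Lg ▸ hl) ih
    | mul_inv_cancel x hx y hy ih =>
      obtain ⟨l, hl, rfl⟩ := List.getElem_of_mem hy
      rw [← List.getD_eq_getElem Lg 1 hl, show Lg.getD l 1 = fl Lg l from rfl,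
        inv_eq_of_mul_eq_one_right (sq_all l)]
      exact hstep x l (len_Lg ▸ hl) ih
  obtain ⟨i, hi, ht⟩ := hcov g (closure_Lg ▸ Subgroup.mem_top g)
  rw [mul_assoc, ← hg, inv_mul_cancel_left] at ht
  have hsame : i.val ∈ sameT := by
    by_contra hn
    have h := of_allBelow tr_ne i.val i.isLt
    have hf : (sameT.any fun j => Nat.beq i.val j) = false := by
      rw [Bool.eq_false_iff, ne_eq, List.any_eq_true]
      rintro ⟨j, hj, e⟩
      exact hn (Nat.eq_of_beq_eq_true e ▸ hj)
    rw [hf, cond_false, Bool.not_eq_true'] at h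
    have e6 : fl Lg 6 = pG (sT 6) := by rw [Lg, fl_map]; exact congrArg pG (fl_Ls 6)
    rw [e6] at ht
    rw [QuotientGroup.mk'_apply, QuotientGroup.mk'_apply, QuotientGroup.eq,
      CfsgLib.Unitary.mem_center_SU_iff hF (by norm_num)] at ht
    obtain ⟨a, ha⟩ := ht
    have hmat : mat (Tr i) = a • mat (sT 6) := by
      have e : mat ((sT 6)⁻¹ * Tr i) = a • 1 := ha
      calc mat (Tr i) = mat (sT 6 * ((sT 6)⁻¹ * Tr i)) := by rw [mul_inv_cancel_left]
        _ = mat (sT 6) * (a • 1) := by rw [mat_mul, e]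
        _ = a • mat (sT 6) := by rw [Matrix.mul_smul, mul_one]
    have ha0 : a ≠ 0 := by
      rintro rfl
      have hdet := (Tr i).1.2
      rw [show ((Tr i).1 : Matrix (Fin 6) (Fin 6) F4) = mat (Tr i) from rfl, hmat, zero_smul,
        Matrix.det_zero] at hdet
      exact zero_ne_one hdet
    have hmem : a ∈ [F4.o, F4.w, F4.v] := by
      revert ha0; generalize a = b; cases b <;> simp [show (0 : F4) = F4.z from rfl]
    refine absurd h ?_
    rw [Bool.not_eq_false, List.any_eq_true]
    refine ⟨a, hmem, List.all_eq_true.mpr fun r hr => ?_⟩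
    have hr' : r < 6 := List.mem_range.mp hr
    rw [show Cfsg.unitaryTransvection 6 2 (cv i.val) (1 : F4) = mat (Tr i) from rfl, hmat,
      show matsT.getD 6 [] = rowsOf (Equiv.refl (Fin 6)) (mat (sT 6)) from
        (rows_check.1 6).symm]
    rw [List.getD_eq_getElem _ _ (by simpa [rowsOf] using hr'),
      List.getD_eq_getElem _ _ (by simpa [rowsOf] using hr')]
    simp only [rowsOf, List.getElem_ofFn, List.map_ofFn]
    exact beqL_refl _
  have hw : ∃ w : List Nat, (∀ l ∈ w, l < 8) ∧ ev Lg w = 1 ∧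
      follow (tget Top.Tb) 0 w = i.val := by
    have hk := scalW_one k3_G
    have hl := letters_lt (cond_false_eq_true.mp k3_G).1 _ (List.mem_singleton_self _)
    unfold sameT at hsame
    simp only [List.mem_cons, List.not_mem_nil, or_false] at hsame
    rcases hsame with e | e | e
    · exact ⟨[], by simp, by simp, by rw [follow_nil, e]⟩
    · exact ⟨k3W, hl, hk, e.symm⟩
    · refine ⟨k3W ++ k3W, fun l h => ?_, by rw [ev_append, hk, one_mul], e.symm⟩
      rcases List.mem_append.mp h with h | h <;> exact hl l h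
  obtain ⟨w, hwl, hw1, hwf⟩ := hw
  have hr := top_table.mem_of_follow w 0 (by decide) (len_Lg.symm ▸ hwl)
  rw [hwf, top_table.zero, rp_zero, one_mul, hw1, one_mul] at hr
  simpa using H7.mul_mem hi (inv_mem_iff.mp hr)

end CfsgLib.Coset.U62.Schur
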