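import Cfsg.Agent.Coset.U62.Schur.Group
import Cfsg.Agent.Coset.U62.Schur.Pres
import Mathlib.GroupTheory.Abelianization.Defs
import Mathlib.Tactic.Group

/-!
In a perfect central extension of `PSU(6, 2)` the lifts of the transvections are rigid, and suitably
normalised they satisfy all the relators, so the kernel has order at most twelve.
-/

set_option autoImplicit false
set_option maxRecDepth 100000
set_option Elab.async false

namespace CfsgLib.Coset.U62.Schur

open CfsgLib.Coset
open scoped commutatorElement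

universe u

/-- A product of conjugates, as a word. -/
def lineW (L : List (List Nat × Nat)) : List Nat := L.flatMap tpW

theorem edge_checks : allList (fun e => eqW [e.1, e.2, e.1] [e.2, e.1, e.2])
    [(0, 1), (1, 2), (1, 3), (2, 4), (4, 5)] = true := by decide +kernel

theorem line_check : (allList (fun l => Nat.ble (Nat.add l 1) 6) (lineW fiveA) = true) ∧
    (lineW fiveA).length = 29 ∧ scalW (lineW fiveA) = true := by
  refine ⟨?_, ?_, ?_⟩ <;> decide +kernel

theorem conj_checks : allBelow 3 8 (fun l => eqW (tpW (conjL.getD l [], 6)) [l]) = true ∧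
    checkLetters 8 [moveW] = true ∧
    allList (fun p => allList (fun q => eqW (tpW p ++ tpW q) (tpW q ++ tpW p)) fiveA) fiveA = true ∧
    allBelow 3 5 (fun i => eqW (moveW ++ tpW (fiveA.getD i ([], 0)) ++ moveW.reverse)
      (tpW (fiveB.getD i ([], 0)))) = true ∧
    eqW (tpW topA) (tpW topB) = true := by
  refine ⟨?_, ?_, ?_, ?_, ?_⟩ <;> decide +kernel

theorem shapes : fiveA.length = 5 ∧ fiveB.length = 5 ∧
    allList (fun p => Nat.ble (Nat.add p.2 1) 8) (fiveA ++ fiveB ++ [topA, topB]) = true ∧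
    checkLetters 8 ((fiveA ++ fiveB ++ [topA, topB]).map Prod.fst) = true := by
  refine ⟨?_, ?_, ?_, ?_⟩ <;> decide +kernel

/-- Relators of the diagram. -/
def isCox : List Nat → Bool
  | [a, b] => a == b && Nat.blt a 8
  | [a, b, c, d] => a == c && b == d && Nat.blt a 8 && Nat.blt b 8
  | [a, b, c, d, e, f] => a == c && a == e && b == d && b == f && Nat.blt a 8 && Nat.blt b 8
  | _ => false

theorem rels_shape : rels.all (fun w => isCox w || w == lineW fiveA || w == lineW fiveB ||
    w == tpW topA ++ tpW topB) = true := by decide +kernel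

variable {Γ : Type u} [Group Γ] {σ : Γ →* G}

theorem central_of_ker (hc : σ.ker ≤ Subgroup.center Γ) {z : Γ} (hz : σ z = 1) (y : Γ) :
    y * z = z * y := Subgroup.mem_center_iff.mp (hc (MonoidHom.mem_ker.mpr hz)) y

/-- The transvection. -/
noncomputable abbrev t : G := fl Lg 6

/-- The commutator of a lift with the chosen lift. -/
def zc (T g : Γ) : Γ := g * T * g⁻¹ * T⁻¹

theorem zc_mul {T g h : Γ} (hh : ∀ y, y * zc T h = zc T h * y) :
    zc T (g * h) = zc T h * zc T g := by
  calc zc T (g * h) = g * (zc T h * T) * g⁻¹ * T⁻¹ := by unfold zc; group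
    _ = g * zc T h * (T * g⁻¹ * T⁻¹) := by group
    _ = zc T h * g * (T * g⁻¹ * T⁻¹) := by rw [hh g]
    _ = zc T h * zc T g := by unfold zc; group

theorem zc_central (hc : σ.ker ≤ Subgroup.center Γ) {T g : Γ} (hT : σ T = t)
    (hg : σ g * t = t * σ g) (y : Γ) : y * zc T g = zc T g * y := by
  refine central_of_ker hc ?_ y
  rw [zc, map_mul, map_mul, map_mul, map_inv, map_inv, hT, hg]
  group

theorem zc_of_ker (hc : σ.ker ≤ Subgroup.center Γ) {T z : Γ} (hz : σ z = 1) : zc T z = 1 := by
  rw [zc, ← central_of_ker hc hz T]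
  group

theorem comm_t : allBelow 3 7 (fun l => eqW [l, 6] [6, l]) = true := by decide +kernel

theorem gen_comm {l : Nat} (hl : l < 7) : fl Lg l * t = t * fl Lg l := by
  simpa [ev_cons] using eqW_eq (of_allBelow comm_t l hl)

/-- Lifts of elements centralising the transvection centralise its lift. -/
theorem lift_fixes (hs : Function.Surjective σ) (hc : σ.ker ≤ Subgroup.center Γ) {T : Γ}
    (hT : σ T = t) {g : Γ} (hg : σ g * t = t * σ g) : g * T = T * g := by
  let Y : Nat → Γ := fun l => Function.surjInv hs (fl Lg l)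
  have hY : ∀ l, σ (Y l) = fl Lg l := fun l => Function.surjInv_eq hs _
  have hYc : ∀ l < 7, σ (Y l) * t = t * σ (Y l) := fun l hl => by rw [hY]; exact gen_comm hl
  have hz : ∀ l < 7, ∀ y, y * zc T (Y l) = zc T (Y l) * y := fun l hl =>
    zc_central hc hT (hYc l hl)
  have hsq : ∀ l < 7, zc T (Y l) * zc T (Y l) = 1 := fun l hl => by
    rw [← zc_mul (hz l hl)]
    exact zc_of_ker hc (by rw [map_mul, hY, sq_all])
  have hedge : ∀ e ∈ [(0, 1), (1, 2), (1, 3), (2, 4), (4, 5)],
      zc T (Y e.1) = zc T (Y e.2) := by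
    intro e he
    have hlt : e.1 < 7 ∧ e.2 < 7 := by
      simp only [List.mem_cons, List.not_mem_nil, or_false] at he
      rcases he with rfl | rfl | rfl | rfl | rfl <;> decide
    obtain ⟨a, b⟩ := e
    obtain ⟨ha, hb⟩ := hlt
    have e0 := eqW_eq (allList_iff.mp edge_checks _ he)
    simp only [ev_cons, ev_nil, mul_one] at e0
    set p := Y a * Y b * Y a with hp
    set q := Y b * Y a * Y b with hq
    have hpq : σ (p⁻¹ * q) = 1 := by
      simp only [hp, hq, map_mul, map_inv, hY, mul_assoc] at e0 ⊢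
      rw [← e0, inv_mul_cancel]
    have three : ∀ {i j}, i < 7 → j < 7 →
        zc T (Y i * Y j * Y i) = zc T (Y j) := fun {i j} hi hj => by
      rw [zc_mul (hz i hi), zc_mul (hz j hj), ← hz j hj (zc T (Y i)), ← mul_assoc, hsq i hi,
        one_mul]
    have h1 : zc T q = zc T p := by
      rw [show q = p * (p⁻¹ * q) by group,
        zc_mul (fun y => by rw [zc_of_ker hc hpq, mul_one, one_mul]), zc_of_ker hc hpq, one_mul]
    rw [hp, hq, three ha hb, three hb ha] at h1
    exact h1
  have hall : ∀ l < 6, zc T (Y l) = zc T (Y 0) := by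
    have e01 := hedge (0, 1) (by simp)
    have e12 := hedge (1, 2) (by simp)
    have e13 := hedge (1, 3) (by simp)
    have e24 := hedge (2, 4) (by simp)
    have e45 := hedge (4, 5) (by simp)
    intro l hl
    interval_cases l
    · rfl
    · exact e01.symm
    · exact (e01.trans e12).symm
    · exact (e01.trans e13).symm
    · exact (e01.trans (e12.trans e24)).symm
    · exact (e01.trans (e12.trans (e24.trans e45))).symm
  have hword : ∀ w : List Nat, (∀ l ∈ w, l < 6) → ∃ x, σ x = ev Lg w ∧
      zc T x = zc T (Y 0) ^ w.length := by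
    intro w
    induction w with
    | nil => intro _; exact ⟨1, by simp, by rw [zc_of_ker hc (map_one σ), List.length_nil, pow_zero]⟩
    | cons l w ih =>
      intro h
      obtain ⟨x, hx, hzx⟩ := ih fun a ha => h a (by simp [ha])
      refine ⟨Y l * x, by rw [map_mul, hY, hx, ev_cons], ?_⟩
      rw [zc_mul (fun y => by rw [hzx]; exact ((show Commute y _ from hz 0 (by decide) y).pow_right _).eq),
        hzx, hall l (h l (by simp)), List.length_cons, pow_succ]
  obtain ⟨hl6, hlen, hscal⟩ := line_check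
  have h0 : zc T (Y 0) = 1 := by
    obtain ⟨x, hx, hzx⟩ := hword (lineW fiveA)
      (fun l hl => Nat.ble_eq.mp (allList_iff.mp hl6 l hl))
    rw [zc_of_ker hc (hx.trans (scalW_one hscal)), hlen, show (29 : ℕ) = 2 * 14 + 1 from rfl,
      pow_succ, pow_mul, pow_two, hsq 0 (by decide), one_pow, one_mul] at hzx
    exact hzx.symm
  have fix_of_zc : ∀ {x : Γ}, zc T x = 1 → x * T = T * x := fun {x} h => by
    unfold zc at h
    rwa [mul_inv_eq_one, mul_inv_eq_iff_eq_mul] at h
  set D := Subgroup.centralizer ({T} : Set Γ)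
  have hD : H7 ≤ D.map σ := by
    rw [H7, genBy, Subgroup.closure_le]
    intro x hx
    obtain ⟨l, hl, rfl⟩ := List.mem_map.mp (show x ∈ lv Lg [0, 1, 2, 3, 4, 5, 6] from hx)
    rcases (show l < 6 ∨ l = 6 by simp at hl; omega) with h | rfl
    · exact ⟨Y l, Subgroup.mem_centralizer_singleton_iff.mpr
        (fix_of_zc ((hall l h).trans h0)), hY l⟩
    · exact ⟨T, Subgroup.mem_centralizer_singleton_iff.mpr rfl, hT⟩
  obtain ⟨d, hd, he⟩ := hD (centralizer_le hg)
  have hk : σ (d⁻¹ * g) = 1 := by rw [map_mul, map_inv, he, inv_mul_cancel]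
  calc g * T = d * ((d⁻¹ * g) * T) := by group
    _ = d * (T * (d⁻¹ * g)) := by rw [central_of_ker hc hk T]
    _ = (d * T) * (d⁻¹ * g) := by group
    _ = T * g := by rw [Subgroup.mem_centralizer_singleton_iff.mp hd]; group

/-- The conjugates of a lift. -/
def Hat (T Y : Γ) : Prop := ∃ u : Γ, Y = u * T * u⁻¹

theorem Hat.conj {T Y : Γ} (hY : Hat T Y) (u : Γ) : Hat T (u * Y * u⁻¹) := by
  obtain ⟨v, rfl⟩ := hY
  exact ⟨u * v, by group⟩

theorem Hat.unique (hs : Function.Surjective σ) (hc : σ.ker ≤ Subgroup.center Γ) {T Y Z : Γ}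
    (hT : σ T = t) (hY : Hat T Y) (hZ : Hat T Z) (h : σ Y = σ Z) : Y = Z := by
  obtain ⟨a, rfl⟩ := hY
  obtain ⟨b, rfl⟩ := hZ
  have hg : σ (b⁻¹ * a) * t = t * σ (b⁻¹ * a) := by
    rw [← hT]
    simp only [map_mul, map_inv] at h ⊢
    calc (σ b)⁻¹ * σ a * σ T = (σ b)⁻¹ * (σ a * σ T * (σ a)⁻¹) * σ a := by group
      _ = σ T * ((σ b)⁻¹ * σ a) := by rw [h]; group
  have := lift_fixes hs hc hT hg
  calc a * T * a⁻¹ = b * ((b⁻¹ * a) * T) * a⁻¹ := by group
    _ = b * T * b⁻¹ := by rw [this]; group

theorem Hat.sq_eq (hc : σ.ker ≤ Subgroup.center Γ) {T Y : Γ} (hT : σ T = t) (hY : Hat T Y) :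
    Y * Y = T * T := by
  obtain ⟨u, rfl⟩ := hY
  calc u * T * u⁻¹ * (u * T * u⁻¹) = u * (T * T) * u⁻¹ := by group
    _ = T * T := by
      rw [central_of_ker hc (by rw [map_mul, hT]; exact sq_all 6) u, mul_inv_cancel_right]

theorem Hat.comm (hs : Function.Surjective σ) (hc : σ.ker ≤ Subgroup.center Γ) {T Y Z : Γ}
    (hT : σ T = t) (hZ : Hat T Z) (h : σ Y * σ Z = σ Z * σ Y) : Y * Z = Z * Y := by
  have := (hZ.conj Y).unique hs hc hT hZ (by rw [map_mul, map_mul, map_inv, h]; group)
  calc Y * Z = Y * Z * Y⁻¹ * Y := by group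
    _ = Z * Y := by rw [this]

/-- The chosen conjugator. -/
noncomputable def up (hs : Function.Surjective σ) (p : List Nat × Nat) : Γ :=
  Function.surjInv hs (ev Lg (p.1 ++ conjL.getD p.2 []))

/-- The chosen lift of a conjugate. -/
noncomputable def hatP (hs : Function.Surjective σ) (T : Γ) (p : List Nat × Nat) : Γ :=
  up hs p * T * (up hs p)⁻¹

theorem hatP_spec (hs : Function.Surjective σ) {T : Γ} (hT : σ T = t) {p : List Nat × Nat}
    (hp : p.2 < 8) : Hat T (hatP hs T p) ∧ σ (hatP hs T p) = ev Lg (tpW p) := by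
  refine ⟨⟨_, rfl⟩, ?_⟩
  have e := eqW_eq (of_allBelow conj_checks.1 p.2 hp)
  rw [ev_tpW, ev_cons, ev_nil, mul_one] at e
  rw [hatP, map_mul, map_mul, map_inv, up, Function.surjInv_eq hs, hT, ev_tpW, ev_append, ← e]
  group

theorem hatP_mul (hs : Function.Surjective σ) (T : Γ) {w : Γ} (hw : ∀ y, y * w = w * y)
    (p : List Nat × Nat) : hatP hs (T * w) p = hatP hs T p * w := by
  calc up hs p * (T * w) * (up hs p)⁻¹ = up hs p * T * (w * (up hs p)⁻¹) := by group
    _ = up hs p * T * ((up hs p)⁻¹ * w) := by rw [hw]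
    _ = hatP hs T p * w := by unfold hatP; group

theorem prod_sq {s : Γ} (hsc : ∀ y : Γ, y * s = s * y) : ∀ l : List Γ,
    (∀ x ∈ l, x * x = s) → (∀ x ∈ l, ∀ y ∈ l, x * y = y * x) →
      l.prod * l.prod = s ^ l.length
  | [], _, _ => by simp
  | x :: l, h, hc => by
    have hxp : Commute x l.prod :=
      Commute.list_prod_right l x fun y hy => hc x (by simp) y (by simp [hy])
    have ih := prod_sq hsc l (fun y hy => h y (by simp [hy]))
      (fun y hy z hz => hc y (by simp [hy]) z (by simp [hz]))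
    rw [List.prod_cons, List.length_cons, pow_succ']
    calc x * l.prod * (x * l.prod) = x * (l.prod * x) * l.prod := by group
      _ = (x * x) * (l.prod * l.prod) := by rw [← hxp.eq]; group
      _ = s * s ^ l.length := by rw [h x (by simp), ih]

theorem prod_mul_central {A : Type*} {w : Γ} (hw : ∀ y, y * w = w * y) (f : A → Γ) :
    ∀ l : List A, (l.map fun a => f a * w).prod = (l.map f).prod * w ^ l.length
  | [] => by simp
  | a :: l => by
    rw [List.map_cons, List.prod_cons, prod_mul_central hw f l, List.map_cons, List.prod_cons,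
      List.length_cons, pow_succ']
    calc f a * w * ((l.map f).prod * w ^ l.length)
        = f a * (w * (l.map f).prod) * w ^ l.length := by group
      _ = f a * ((l.map f).prod * w) * w ^ l.length := by rw [hw]
      _ = f a * (l.map f).prod * (w * w ^ l.length) := by group

theorem five_facts (hs : Function.Surjective σ) (hc : σ.ker ≤ Subgroup.center Γ) {T : Γ}
    (hT : σ T = t) : σ (fiveA.map (hatP hs T)).prod = 1 ∧
      (fiveA.map (hatP hs T)).prod * (fiveA.map (hatP hs T)).prod = (T * T) ^ 5 := by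
  obtain ⟨hlen, -, hlt, -⟩ := shapes
  have hp : ∀ p ∈ fiveA, p.2 < 8 := fun p hp => Nat.ble_eq.mp (allList_iff.mp hlt p (by simp [hp]))
  refine ⟨?_, ?_⟩
  · have key : ∀ L : List (List Nat × Nat), (∀ p ∈ L, p.2 < 8) →
        σ (L.map (hatP hs T)).prod = ev Lg (lineW L) := by
      intro L
      induction L with
      | nil => intro _; simp [lineW]
      | cons p L ih =>
        intro h
        rw [List.map_cons, List.prod_cons, map_mul, (hatP_spec hs hT (h p (by simp))).2,
          ih fun q hq => h q (by simp [hq])]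
        simp [lineW, ev_append]
    rw [key fiveA hp, scalW_one line_check.2.2]
  · rw [prod_sq (fun y => central_of_ker hc (by rw [map_mul, hT]; exact sq_all 6) y),
      List.length_map, hlen]
    · intro x hx
      obtain ⟨p, hpm, rfl⟩ := List.mem_map.mp hx
      exact (hatP_spec hs hT (hp p hpm)).1.sq_eq hc hT
    · intro x hx y hy
      obtain ⟨p, hpm, rfl⟩ := List.mem_map.mp hx
      obtain ⟨q, hqm, rfl⟩ := List.mem_map.mp hy
      refine Hat.comm hs hc hT (hatP_spec hs hT (hp q hqm)).1 ?_
      rw [(hatP_spec hs hT (hp p hpm)).2, (hatP_spec hs hT (hp q hqm)).2, ← ev_append, ← ev_append]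
      exact eqW_eq (allList_iff.mp (allList_iff.mp conj_checks.2.2.1 p hpm) q hqm)

/-- A normalised lift of the transvection. -/
theorem exists_normal (hs : Function.Surjective σ) (hc : σ.ker ≤ Subgroup.center Γ) :
    ∃ T : Γ, σ T = t ∧ T * T = 1 ∧ (fiveA.map (hatP hs T)).prod = 1 := by
  obtain ⟨T, hT⟩ := hs t
  obtain ⟨hP, hPP⟩ := five_facts hs hc hT
  set s := T * T with hs'
  set p := (fiveA.map (hatP hs T)).prod
  have hsk : σ s = 1 := by rw [hs', map_mul, hT]; exact sq_all 6
  set w := p * (s ^ 3)⁻¹ with hw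
  have hwk : σ w = 1 := by rw [hw, map_mul, map_inv, map_pow, hP, hsk]; simp
  have hwc := central_of_ker hc hwk
  have hsq : T * w * (T * w) = 1 := by
    have hps : Commute p (s ^ 3)⁻¹ :=
      ((show Commute p s from central_of_ker hc hsk p).pow_right 3).inv_right
    calc T * w * (T * w) = T * (w * T) * w := by group
      _ = s * (w * w) := by rw [← hwc T, hs']; group
      _ = s * (p * ((s ^ 3)⁻¹ * p) * (s ^ 3)⁻¹) := by rw [hw]; group
      _ = s * (p * p * ((s ^ 3)⁻¹ * (s ^ 3)⁻¹)) := by rw [← hps.eq]; group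
      _ = 1 := by rw [hPP]; group
  set T1 := T * w with hT1
  have hT1' : σ T1 = t := by rw [hT1, map_mul, hT, hwk, mul_one]
  obtain ⟨hQ, hQQ⟩ := five_facts hs hc hT1'
  rw [hsq, one_pow] at hQQ
  set e := (fiveA.map (hatP hs T1)).prod with he
  have hec := central_of_ker hc hQ
  refine ⟨T1 * e, by rw [map_mul, hT1', hQ, mul_one], ?_, ?_⟩
  · calc T1 * e * (T1 * e) = T1 * (e * T1) * e := by group
      _ = T1 * T1 * (e * e) := by rw [← hec T1]; group
      _ = 1 := by rw [hsq, hQQ, one_mul]
  · rw [show hatP hs (T1 * e) = fun p => hatP hs T1 p * e from funext (hatP_mul hs T1 hec),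
      prod_mul_central hec, shapes.1, ← he, ← pow_succ', show (5 + 1 : ℕ) = 2 * 3 from rfl, pow_mul,
      pow_two, hQQ, one_pow]

/-- Lifts satisfying all relators. -/
theorem exists_lifts (hs : Function.Surjective σ) (hc : σ.ker ≤ Subgroup.center Γ) :
    ∃ X : List Γ, X.length = 8 ∧ (∀ l, σ (fl X l) = fl Lg l) ∧ ∀ w ∈ rels, ev X w = 1 := by
  obtain ⟨T, hT, hT2, hfive⟩ := exists_normal hs hc
  set X : List Γ := List.ofFn fun l : Fin 8 => hatP hs T ([], l.val) with hX
  have hfl : ∀ l, l < 8 → fl X l = hatP hs T ([], l) := fun l hl => by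
    rw [fl, hX, List.getD_eq_getElem _ _ (by simpa using hl), List.getElem_ofFn]
  have hlen : X.length = 8 := by simp [hX]
  have himg : ∀ l, σ (fl X l) = fl Lg l := fun l => by
    rcases lt_or_ge l 8 with hl | hl
    · rw [hfl l hl, (hatP_spec hs hT hl).2]
      simp [tpW]
    · rw [fl_of_le _ (hlen.symm ▸ hl), fl_of_le _ (len_Lg.symm ▸ hl), map_one]
  have hmap : ∀ w, σ (ev X w) = ev Lg w := fun w => by
    induction w with
    | nil => simp
    | cons l w ih => rw [ev_cons, ev_cons, map_mul, ih, himg]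
  have hhat : ∀ l, l < 8 → Hat T (fl X l) := fun l hl => hfl l hl ▸ (hatP_spec hs hT hl).1
  have hsq : ∀ l, fl X l * fl X l = 1 := fun l => by
    rcases lt_or_ge l 8 with hl | hl
    · rw [(hhat l hl).sq_eq hc hT, hT2]
    · rw [fl_of_le _ (hlen.symm ▸ hl), mul_one]
  have hrev : ∀ w : List Nat, ev X w.reverse = (ev X w)⁻¹ := fun w => by
    induction w with
    | nil => simp
    | cons k w ih =>
      rw [List.reverse_cons, ev_append, ih, ev_cons, ev_cons, ev_nil, mul_one, _root_.mul_inv_rev,
        inv_eq_of_mul_eq_one_right (hsq k)]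
  have htp : ∀ p : List Nat × Nat, p.2 < 8 → ev X (tpW p) = hatP hs T p := fun p hp => by
    refine Hat.unique hs hc hT ?_ (hatP_spec hs hT hp).1 (by rw [hmap, (hatP_spec hs hT hp).2])
    rw [tpW, ev_append, ev_append, hrev, ev_cons, ev_nil, mul_one]
    exact (hhat p.2 hp).conj _
  have hline : ∀ L : List (List Nat × Nat), (∀ p ∈ L, p.2 < 8) →
      ev X (lineW L) = (L.map (hatP hs T)).prod := by
    intro L
    induction L with
    | nil => intro _; simp [lineW]
    | cons p L ih =>
      intro h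
      rw [List.map_cons, List.prod_cons, ← htp p (h p (by simp)), ← ih fun q hq => h q (by simp [hq])]
      simp [lineW, ev_append]
  obtain ⟨hA5, hB5, hlt, -⟩ := shapes
  have hp : ∀ p ∈ fiveA ++ fiveB ++ [topA, topB], p.2 < 8 := fun p h =>
    Nat.ble_eq.mp (allList_iff.mp hlt p h)
  refine ⟨X, hlen, himg, fun w hw => ?_⟩
  have h := List.all_eq_true.mp rels_shape w hw
  have hG := ev_rels w hw
  simp only [Bool.or_eq_true, beq_iff_eq] at h
  rcases h with ((h | rfl) | rfl) | rfl
  · unfold isCox at h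
    split at h
    · simp only [Bool.and_eq_true, beq_iff_eq] at h
      obtain ⟨rfl, -⟩ := h
      simpa [ev_cons] using hsq _
    · rename_i a b c d
      simp only [Bool.and_eq_true, beq_iff_eq, Nat.blt_eq] at h
      obtain ⟨⟨⟨rfl, rfl⟩, ha⟩, hb⟩ := h
      simp only [ev_cons, ev_nil, mul_one] at hG ⊢
      have e : fl X a * fl X b = fl X b * fl X a := by
        refine Hat.comm hs hc hT (hhat b hb) ?_
        rw [himg, himg]
        calc fl Lg a * fl Lg b = fl Lg a * fl Lg b * (fl Lg a * fl Lg b) *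
              ((fl Lg b)⁻¹ * (fl Lg a)⁻¹) := by group
          _ = (fl Lg b)⁻¹ * (fl Lg a)⁻¹ := by rw [mul_assoc (fl Lg a), hG, one_mul]
          _ = fl Lg b * fl Lg a := by
            rw [inv_eq_of_mul_eq_one_right (sq_all a), inv_eq_of_mul_eq_one_right (sq_all b)]
      calc fl X a * (fl X b * (fl X a * fl X b))
          = fl X a * (fl X b * (fl X b * fl X a)) := by rw [e]
        _ = 1 := by rw [← mul_assoc (fl X b), hsq, one_mul, hsq]
    · rename_i a b c d e f
      simp only [Bool.and_eq_true, beq_iff_eq, Nat.blt_eq] at h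
      obtain ⟨⟨⟨⟨⟨rfl, rfl⟩, rfl⟩, rfl⟩, ha⟩, hb⟩ := h
      simp only [ev_cons, ev_nil, mul_one] at hG ⊢
      have hbr : fl X a * fl X b * fl X a = fl X b * fl X a * fl X b := by
        have g1 := (hhat b hb).conj (fl X a)
        have g2 := (hhat a ha).conj (fl X b)
        rw [inv_eq_of_mul_eq_one_right (hsq a)] at g1
        rw [inv_eq_of_mul_eq_one_right (hsq b)] at g2
        refine g1.unique hs hc hT g2 ?_
        simp only [map_mul, himg]
        calc fl Lg a * fl Lg b * fl Lg a
            = fl Lg a * (fl Lg b * (fl Lg a * (fl Lg b * (fl Lg a * fl Lg b)))) *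
              ((fl Lg b)⁻¹ * (fl Lg a)⁻¹ * (fl Lg b)⁻¹) := by group
          _ = fl Lg b * fl Lg a * fl Lg b := by
            rw [hG, one_mul, inv_eq_of_mul_eq_one_right (sq_all a),
              inv_eq_of_mul_eq_one_right (sq_all b)]
      calc fl X a * (fl X b * (fl X a * (fl X b * (fl X a * fl X b))))
          = fl X a * fl X b * fl X a * (fl X b * fl X a * fl X b) := by group
        _ = fl X b * fl X a * fl X b * (fl X b * fl X a * fl X b) := by rw [hbr]
        _ = fl X b * fl X a * (fl X b * fl X b) * fl X a * fl X b := by group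
        _ = fl X b * (fl X a * fl X a) * fl X b := by rw [hsq b]; group
        _ = 1 := by rw [hsq a, mul_one, hsq b]
    · exact absurd h Bool.false_ne_true
  · rw [hline fiveA fun p h => hp p (by simp [h]), hfive]
  · rw [hline fiveB fun p h => hp p (by simp [h])]
    obtain ⟨m, hm⟩ := hs (ev Lg moveW)
    have hmove : fiveB.map (hatP hs T) = (fiveA.map (hatP hs T)).map fun x => m * x * m⁻¹ := by
      refine List.ext_getElem (by simp [hA5, hB5]) fun i h1 h2 => ?_
      simp only [List.getElem_map]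
      simp only [List.length_map] at h1 h2
      have hi : i < 5 := hA5 ▸ h2
      have ha := List.getElem_mem (l := fiveA) (n := i) h2
      have hb := List.getElem_mem (l := fiveB) (n := i) h1
      refine Hat.unique hs hc hT (hatP_spec hs hT (hp _ (by simp [hb]))).1
        ((hatP_spec hs hT (hp _ (by simp [ha]))).1.conj m) ?_
      rw [map_mul, map_mul, map_inv, hm, (hatP_spec hs hT (hp _ (by simp [ha]))).2,
        (hatP_spec hs hT (hp _ (by simp [hb]))).2]
      have e := eqW_eq (of_allBelow conj_checks.2.2.2.1 i hi)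
      rw [List.getD_eq_getElem _ _ h1, List.getD_eq_getElem _ _ h2, ev_append, ev_append, ev_rev] at e
      exact e.symm
    have hconj : ∀ l : List Γ, (l.map fun x => m * x * m⁻¹).prod = m * l.prod * m⁻¹ := fun l => by
      induction l with
      | nil => simp
      | cons x l ih => rw [List.map_cons, List.prod_cons, ih, List.prod_cons]; group
    rw [hmove, hconj, hfive]
    group
  · have e := eqW_eq conj_checks.2.2.2.2
    have h1 := (hatP_spec hs hT (hp topA (by simp))).1
    rw [ev_append, htp _ (hp topA (by simp)), htp _ (hp topB (by simp)),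
      h1.unique hs hc hT (hatP_spec hs hT (hp topB (by simp))).1
        (by rw [(hatP_spec hs hT (hp topA (by simp))).2, (hatP_spec hs hT (hp topB (by simp))).2, e]),
      (hatP_spec hs hT (hp topB (by simp))).1.sq_eq hc hT, hT2]

/-- A perfect central extension has kernel of order at most twelve. -/
theorem card_ker_le_twelve [Finite Γ] (hs : Function.Surjective σ) (hc : σ.ker ≤ Subgroup.center Γ)
    (hp : commutator Γ = ⊤) : Nat.card σ.ker ≤ 12 := by
  obtain ⟨X, hlen, himg, hrel⟩ := exists_lifts hs hc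
  let f : P12 →* Γ := numHom hlen hrel
  have hfl : ∀ l, σ (f (fl Lp l)) = fl Lg l := fun l => by
    rw [show f (fl Lp l) = fl X l from numHom_fl hlen hrel l, himg]
  have hsur : Function.Surjective (σ.comp f) := by
    rw [← MonoidHom.range_eq_top, eq_top_iff, ← closure_Lg, Subgroup.closure_le]
    intro x hx
    obtain ⟨l, hl, rfl⟩ := List.getElem_of_mem hx
    exact ⟨fl Lp l, by rw [MonoidHom.comp_apply, hfl, fl, List.getD_eq_getElem _ _ hl]⟩
  have hdec : ∀ g : Γ, ∃ x, ∃ k ∈ Subgroup.center Γ, g = f x * k := fun g => by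
    obtain ⟨x, hx⟩ := hsur (σ g)
    exact ⟨x, (f x)⁻¹ * g, hc (by
      rw [MonoidHom.mem_ker, map_mul, map_inv, show σ (f x) = σ g from hx, inv_mul_cancel]),
      by group⟩
  have htop : f.range = ⊤ := by
    rw [eq_top_iff, ← hp, _root_.commutator_def, Subgroup.commutator_le]
    intro a _ b _
    obtain ⟨x, k, hk, rfl⟩ := hdec a
    obtain ⟨y, m, hm, rfl⟩ := hdec b
    refine ⟨⁅x, y⁆, ?_⟩
    rw [map_commutatorElement, commutatorElement_def, commutatorElement_def]
    have ck := Subgroup.mem_center_iff.mp hk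
    have cm := Subgroup.mem_center_iff.mp hm
    symm
    calc f x * k * (f y * m) * (f x * k)⁻¹ * (f y * m)⁻¹
        = f x * (k * (f y * m)) * k⁻¹ * (f x)⁻¹ * m⁻¹ * (f y)⁻¹ := by group
      _ = f x * (f y * m * k) * k⁻¹ * (f x)⁻¹ * m⁻¹ * (f y)⁻¹ := by rw [ck (f y * m)]
      _ = f x * f y * (m * (f x)⁻¹) * m⁻¹ * (f y)⁻¹ := by group
      _ = f x * f y * ((f x)⁻¹ * m) * m⁻¹ * (f y)⁻¹ := by rw [cm (f x)⁻¹]
      _ = f x * f y * (f x)⁻¹ * (f y)⁻¹ := by group
  have := card_le.1
  have h1 : Nat.card Γ ≤ 110361968640 :=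
    (Nat.card_le_card_of_surjective f (MonoidHom.range_eq_top.mp htop)).trans card_le.2
  have h2 : Nat.card σ.ker * Nat.card G = Nat.card Γ := by
    rw [← σ.ker.card_mul_index, Subgroup.index_ker, MonoidHom.range_eq_top.mpr hs, Subgroup.card_top]
  rw [show Nat.card G = 9196830720 from card_PSU] at h2
  omega

end CfsgLib.Coset.U62.Schur
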