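import Cfsg.Agent.Coset.U62.Schur.Cover
import Cfsg.Agent.Coset.U62.Schur.Upper
import Cfsg.Agent.DMult.StemBound
import Cfsg.Agent.U33Degrees.Transfer

/-! The multiplier of `PSU(6, 2)`. -/

set_option autoImplicit false
set_option maxRecDepth 100000
set_option Elab.async false

namespace CfsgLib.Coset.U62.Schur

open CfsgLib.Coset
open CfsgLib.Coset.G24 (F4)

universe u

/-- The multiplier. -/
theorem multiplier {F : Type u} [Field F] [Fintype F] (hF4 : Fintype.card F = 4) :
    Cfsg.HasSchurMultiplier (Cfsg.PSU 6 F 2) (Multiplicative (ZMod 3 × ZMod 2 × ZMod 2)) := by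
  have := card_le.1
  let r : F4 ≃+* F := FiniteField.ringEquivOfCardEq (K := F4) (K' := F) (by rw [F4.card_eq, hF4])
  let e : G ≃* Cfsg.PSU 6 F 2 := CfsgLib.U33Deg.psuCongr r
  let j : ULift.{u} P12 ≃* P12 := MulEquiv.ulift
  let τ' : ULift.{u} P12 →* Cfsg.PSU 6 F 2 := (e.toMonoidHom.comp τ).comp j.toMonoidHom
  have mem : ∀ {x}, x ∈ τ'.ker ↔ j x ∈ τ.ker := fun {x} => by
    rw [MonoidHom.mem_ker, MonoidHom.mem_ker]
    exact e.map_eq_one_iff
  let ke : τ'.ker ≃* τ.ker :=
    { toFun := fun x => ⟨j x.1, mem.mp x.2⟩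
      invFun := fun y => ⟨j.symm y.1, mem.mpr (by rw [j.apply_symm_apply]; exact y.2)⟩
      left_inv := fun x => Subtype.ext (j.symm_apply_apply x.1)
      right_inv := fun y => Subtype.ext (j.apply_symm_apply y.1)
      map_mul' := fun x y => Subtype.ext (map_mul j x.1 y.1) }
  obtain ⟨kA⟩ := nonempty_kerEquiv
  refine CfsgLib.DMult.hasSchurMultiplier_of_bound τ' ((e.surjective.comp τ_surjective).comp j.surjective)
    (fun x hx => Subgroup.mem_center_iff.mpr fun y => j.injective (by
      rw [map_mul, map_mul, Subgroup.mem_center_iff.mp (ker_central (mem.mp hx)) (j y)])) ?_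
    (fun E _ _ π hπ hπc hE => ?_) (ke.trans kA)
  · rw [_root_.commutator_def, ← Subgroup.map_top_of_surjective j.symm.toMonoidHom j.symm.surjective,
      ← Subgroup.map_commutator, ← _root_.commutator_def, perfect]
  · let π' : E →* G := e.symm.toMonoidHom.comp π
    have hk : π'.ker = π.ker := MonoidHom.ker_mulEquiv_comp π e.symm
    have h12 := card_ker_le_twelve (σ := π') (e.symm.surjective.comp hπ) (hk.le.trans hπc) hE
    rw [← hk, Nat.card_congr ke.toEquiv, card_ker_τ.1]
    exact h12

end CfsgLib.Coset.U62.Schur
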